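import Mathlib

/-!
# Length arguments for glued Frobenius maps
-/

set_option autoImplicit false
set_option linter.style.haveILetI false

universe u v

open scoped DirectSum

namespace Groth.Agent.H27FonLaf

/-- bijective semilinear maps along a ring automorphism preserve length -/
theorem length_eq_of_semilinear {R : Type u} [CommRing R] (σ : R →+* R) [RingHomSurjective σ]
    {M : Type v} [AddCommGroup M] [Module R M] {N : Type v} [AddCommGroup N] [Module R N]
    (f : M →ₛₗ[σ] N) (hf : Function.Bijective f) : Module.length R M = Module.length R N := by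
  let e : Submodule R M ≃o Submodule R N :=
    { toFun := Submodule.map f
      invFun := Submodule.comap f
      left_inv := fun S => Submodule.comap_map_eq_of_injective hf.1 S
      right_inv := fun S => Submodule.map_comap_eq_of_surjective hf.2 S
      map_rel_iff' := fun {S T} => Submodule.map_le_map_iff_of_injective hf.1 S T }
  apply WithBot.coe_injective
  rw [Module.coe_length, Module.coe_length, Order.krullDim_eq_of_orderIso e]

theorem length_le_of_mem {R : Type u} [CommRing R] {M : Type v} [AddCommGroup M] [Module R M]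
    {P : Submodule R M} : Module.length R P + Module.length R (M ⧸ P) = Module.length R M :=
  (Module.length_eq_add_of_exact P.subtype P.mkQ P.subtype_injective P.mkQ_surjective
    (LinearMap.exact_subtype_mkQ P)).symm

/-- a glued family with semilinearly bijective cokernel is injective modulo every scalar -/
theorem injective_mod {R : Type u} [CommRing R] (σ : R →+* R) [RingHomSurjective σ]
    {A B M₀ M : Type v} [AddCommGroup A] [Module R A] [AddCommGroup B] [Module R B] [AddCommGroup M₀] [Module R M₀]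
    [AddCommGroup M] [Module R M] (hA : IsFiniteLength R A) (c : R) (e : A ≃ₗ[R] M₀ × B)
    (ι : B →ₗ[R] A) (Φ : A →ₛₗ[σ] M) (hsurj : Function.Surjective Φ) (hker : ∀ a, Φ a = 0 ↔ ∃ b, ι b = a)
    (hlen : Module.length R (M ⧸ LinearMap.range (σ c • LinearMap.id : M →ₗ[R] M)) =
      Module.length R (M₀ ⧸ LinearMap.range (c • LinearMap.id : M₀ →ₗ[R] M₀))) :
    ∀ b, (∃ a, ι b = c • a) → ∃ b', b = c • b' := by
  let PA : Submodule R A := LinearMap.range (c • LinearMap.id : A →ₗ[R] A)
  let PB : Submodule R B := LinearMap.range (c • LinearMap.id : B →ₗ[R] B)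
  let PM : Submodule R M := LinearMap.range (σ c • LinearMap.id : M →ₗ[R] M)
  let P₀ : Submodule R M₀ := LinearMap.range (c • LinearMap.id : M₀ →ₗ[R] M₀)
  let ι' : (B ⧸ PB) →ₗ[R] A ⧸ PA := Submodule.mapQ PB PA ι (by
    rintro _ ⟨b, rfl⟩
    exact ⟨ι b, by simp⟩)
  let Ψ : A →ₛₗ[σ] M ⧸ PM := PM.mkQ.comp Φ
  have hΨ : ∀ a, Ψ a = 0 ↔ Submodule.Quotient.mk a ∈ LinearMap.range ι' := fun a => by
    show Submodule.Quotient.mk (Φ a) = 0 ↔ _
    rw [Submodule.Quotient.mk_eq_zero]
    constructor
    · rintro ⟨m, hm⟩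
      obtain ⟨a', rfl⟩ := hsurj m
      obtain ⟨b, hb⟩ := (hker (a - c • a')).mp (by
        rw [map_sub, LinearMap.map_smulₛₗ, ← hm]; simp)
      refine ⟨Submodule.Quotient.mk b, ?_⟩
      show Submodule.Quotient.mk (ι b) = Submodule.Quotient.mk a
      rw [Submodule.Quotient.eq]
      exact ⟨-a', by simp [hb]⟩
    · rintro ⟨x, hx⟩
      obtain ⟨b, rfl⟩ := Submodule.Quotient.mk_surjective _ x
      change Submodule.Quotient.mk (ι b) = Submodule.Quotient.mk a at hx
      rw [Submodule.Quotient.eq] at hx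
      obtain ⟨a', ha'⟩ := hx
      refine ⟨-Φ a', ?_⟩
      have h0 : Φ (ι b) = 0 := (hker _).mpr ⟨b, rfl⟩
      have := congrArg Φ ha'
      simp only [LinearMap.smul_apply, LinearMap.id_apply, LinearMap.map_smulₛₗ, map_sub, h0, zero_sub] at this
      simp [this]
  have hle : PA ≤ LinearMap.ker Ψ := fun a ha => (hΨ a).mpr (by
    rw [(Submodule.Quotient.mk_eq_zero PA).mpr ha]
    exact zero_mem _)
  let Ψ' : (A ⧸ PA) →ₛₗ[σ] M ⧸ PM := PA.liftQ Ψ hle
  have hk : LinearMap.ker Ψ' = LinearMap.range ι' := by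
    ext x
    obtain ⟨a, rfl⟩ := Submodule.Quotient.mk_surjective _ x
    exact hΨ a
  let Ψ'' : ((A ⧸ PA) ⧸ LinearMap.range ι') →ₛₗ[σ] M ⧸ PM := (LinearMap.range ι').liftQ Ψ' hk.ge
  have hbij : Function.Bijective Ψ'' := by
    refine ⟨?_, fun y => ?_⟩
    · rw [← LinearMap.ker_eq_bot, Submodule.ker_liftQ, hk, Submodule.mkQ_map_self]
    · obtain ⟨m, rfl⟩ := PM.mkQ_surjective y
      obtain ⟨a, rfl⟩ := hsurj m
      exact ⟨Submodule.Quotient.mk (Submodule.Quotient.mk a), rfl⟩
  have h1 := length_eq_of_semilinear σ Ψ'' hbij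
  let q : A →ₗ[R] (M₀ ⧸ P₀) × (B ⧸ PB) := (LinearMap.prodMap P₀.mkQ PB.mkQ).comp e.toLinearMap
  have hq : LinearMap.ker q = PA := by
    ext a
    simp only [q, LinearMap.mem_ker, LinearMap.comp_apply, LinearEquiv.coe_coe, LinearMap.prodMap_apply, Prod.mk_eq_zero,
      Submodule.mkQ_apply, Submodule.Quotient.mk_eq_zero]
    constructor
    · rintro ⟨⟨m, hm⟩, ⟨b, hb⟩⟩
      refine ⟨e.symm (m, b), e.injective ?_⟩
      simp only [LinearMap.smul_apply, LinearMap.id_apply] at hm hb ⊢
      rw [map_smul, e.apply_symm_apply]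
      exact Prod.ext hm hb
    · rintro ⟨a', rfl⟩
      exact ⟨⟨(e a').1, by simp⟩, ⟨(e a').2, by simp⟩⟩
  have hqs : Function.Surjective q := (Function.Surjective.prodMap P₀.mkQ_surjective PB.mkQ_surjective).comp e.surjective
  have h2 : Module.length R (A ⧸ PA) = Module.length R (M₀ ⧸ P₀) + Module.length R (B ⧸ PB) := by
    rw [← Module.length_prod, ← hq, (q.quotKerEquivOfSurjective hqs).length_eq]
  have h3 := length_le_of_mem (P := LinearMap.range ι')
  rw [h1, hlen, h2, add_comm (Module.length R (LinearMap.range ι'))] at h3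
  have hfin : Module.length R (M₀ ⧸ P₀) ≠ ⊤ ∧ Module.length R (B ⧸ PB) ≠ ⊤ := by
    have hAP : Module.length R (A ⧸ PA) ≠ ⊤ :=
      Module.length_ne_top_iff.mpr (hA.of_surjective PA.mkQ_surjective)
    rw [h2] at hAP
    simpa using hAP
  have h4 : Module.length R (LinearMap.range ι') = Module.length R (B ⧸ PB) :=
    (ENat.add_left_injective_of_ne_top hfin.1) (by simpa [add_comm] using h3)
  have h5 := length_le_of_mem (P := LinearMap.ker ι')
  rw [ι'.quotKerEquivRange.length_eq, h4] at h5
  have h6 : Module.length R (LinearMap.ker ι') = 0 :=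
    (ENat.add_left_injective_of_ne_top hfin.2) (by simpa using h5)
  rw [Module.length_eq_zero_iff, Submodule.subsingleton_iff_eq_bot, LinearMap.ker_eq_bot] at h6
  rintro b ⟨a, ha⟩
  have : ι' (Submodule.Quotient.mk b) = ι' 0 := by
    rw [map_zero]
    show Submodule.Quotient.mk (ι b) = 0
    rw [Submodule.Quotient.mk_eq_zero]
    exact ⟨a, by simp [ha]⟩
  obtain ⟨b', hb'⟩ := (Submodule.Quotient.mk_eq_zero PB).mp (h6 this)
  exact ⟨b', hb'.symm⟩

/-- a pure submodule of a finite torsion module over a local PID is a direct summand -/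
theorem exists_isCompl {R : Type u} [CommRing R] [IsDomain R] [IsPrincipalIdealRing R] (π : R)
    (hπ : ∀ p : R, Irreducible p → Associated p π) {N : Type v} [AddCommGroup N] [Module R N]
    [Module.Finite R N] (hN : Module.IsTorsion R N) (P : Submodule R N)
    (hpure : ∀ (n : ℕ) (y : N), π ^ n • y ∈ P → ∃ a ∈ P, π ^ n • y = π ^ n • a) :
    ∃ Q : Submodule R N, IsCompl P Q := by
  classical
  have hQ : Module.IsTorsion R (N ⧸ P) := fun {x} => by
    obtain ⟨y, rfl⟩ := P.mkQ_surjective x
    obtain ⟨a, ha⟩ := @hN y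
    exact ⟨a, by rw [Submonoid.smul_def] at ha ⊢; rw [← map_smul, ha, map_zero]⟩
  obtain ⟨κ, _, p, hp, e, ⟨E⟩⟩ := Module.equiv_directSum_of_isTorsion hQ
  have hlift : ∀ i, ∃ y : N, p i ^ e i • y = 0 ∧ P.mkQ y = E.symm (DirectSum.of _ i (Ideal.Quotient.mk _ 1)) := fun i => by
    obtain ⟨y, hy⟩ := P.mkQ_surjective (E.symm (DirectSum.of (fun i => R ⧸ R ∙ p i ^ e i) i (Ideal.Quotient.mk _ 1)))
    obtain ⟨u, hu⟩ := (hπ _ (hp i)).pow_pow (n := e i)
    have hz : π ^ e i • P.mkQ y = 0 := by
      rw [hy, ← map_smul E.symm, ← hu, mul_comm, mul_smul]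
      have : p i ^ e i • DirectSum.of (fun i => R ⧸ R ∙ p i ^ e i) i (Ideal.Quotient.mk _ 1) = 0 := by
        erw [← DirectSum.of_smul]
        rw [show p i ^ e i • (Ideal.Quotient.mk (R ∙ p i ^ e i) 1) = Submodule.Quotient.mk (p i ^ e i • (1 : R)) from rfl,
          smul_eq_mul, mul_one, (Submodule.Quotient.mk_eq_zero _).mpr (Submodule.mem_span_singleton_self _), map_zero]
      rw [this, smul_zero, map_zero]
    rw [← map_smul, Submodule.mkQ_apply, Submodule.Quotient.mk_eq_zero] at hz
    obtain ⟨a, ha, hae⟩ := hpure _ _ hz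
    refine ⟨y - a, ?_, ?_⟩
    · have : π ^ e i • (y - a) = 0 := by rw [smul_sub, hae, sub_self]
      rw [← hu, mul_comm, mul_smul] at this
      exact (Units.isUnit u).smul_eq_zero.mp this
    · rw [map_sub, hy, (P.mkQ_apply a).trans ((Submodule.Quotient.mk_eq_zero P).mpr ha), sub_zero]
  choose y hy0 hy using hlift
  let comp : ∀ i, (R ⧸ R ∙ p i ^ e i) →ₗ[R] N := fun i =>
    Submodule.liftQ _ (LinearMap.toSpanSingleton R N (y i)) (by
      rw [Submodule.span_singleton_le_iff_mem, LinearMap.mem_ker, LinearMap.toSpanSingleton_apply]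
      exact hy0 i)
  let s : (N ⧸ P) →ₗ[R] N := (DirectSum.toModule R κ N comp).comp E.toLinearMap
  have hs : P.mkQ.comp s = LinearMap.id := by
    have : P.mkQ.comp (DirectSum.toModule R κ N comp) = E.symm.toLinearMap := by
      refine DirectSum.linearMap_ext R fun i => Submodule.linearMap_qext _ (LinearMap.ext_ring ?_)
      simp only [LinearMap.comp_apply, DirectSum.toModule_lof, comp, Submodule.mkQ_apply, Submodule.liftQ_apply,
        LinearMap.toSpanSingleton_apply, one_smul]
      exact hy i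
    show (P.mkQ.comp (DirectSum.toModule R κ N comp)).comp E.toLinearMap = _
    rw [this]
    ext x
    simp
  have h := LinearMap.isCompl_of_proj (f := (LinearMap.id - s.comp P.mkQ).codRestrict P fun x => by
    refine (Submodule.Quotient.mk_eq_zero P).mp ?_
    show P.mkQ (x - s (P.mkQ x)) = 0
    rw [map_sub, show P.mkQ (s (P.mkQ x)) = P.mkQ x from LinearMap.congr_fun hs _, sub_self]) (p := P)
    fun x => Subtype.ext (by
      have : P.mkQ (x : N) = 0 := by simp
      simp [this])
  exact ⟨_, h⟩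

end Groth.Agent.H27FonLaf
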