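import Groth.Agent.H27FonLaf.Glued
import Mathlib

/-!
# Glued Frobenius with bijective cokernel: the filtration is by direct summands
-/

set_option autoImplicit false
set_option linter.style.haveILetI false

universe u v

namespace Groth.Agent.H27FonLaf

variable (p : ℕ) [Fact p.Prime] (k : Type u) [Field k] [CharP k p] [PerfectRing k p]

theorem main (r : ℕ) (N : ℕ → Type v) [∀ i, AddCommGroup (N i)] [∀ i, Module (WittVector p k) (N i)]
    (hfl : ∀ i, IsFiniteLength (WittVector p k) (N i))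
    (α : ∀ i, N (i + 1) →ₗ[WittVector p k] N i)
    (φ : ∀ i, N i →ₛₗ[(WittVector.frobenius : WittVector p k →+* WittVector p k)] N 0)
    (hφ : ∀ i, i < r → ∀ y : N (i + 1), φ i (α i y) = (p : WittVector p k) • φ (i + 1) y)
    (hsurj : ∀ m : N 0, ∃ y : (i : ℕ) → N i, (∀ i, r < i → y i = 0) ∧
      (Finset.range (r + 1)).sum (fun i => φ i (y i)) = m)
    (hker : ∀ y : (i : ℕ) → N i, (∀ i, r < i → y i = 0) →
      (Finset.range (r + 1)).sum (fun i => φ i (y i)) = 0 →
        ∃ z : (i : ℕ) → N (i + 1), (∀ i, r ≤ i → z i = 0) ∧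
          y 0 = α 0 (z 0) ∧ ∀ i, y (i + 1) = α (i + 1) (z (i + 1)) - (p : WittVector p k) • z i)
    (i : ℕ) (hi : i < r) :
    Function.Injective (α i) ∧ ∃ Q : Submodule (WittVector p k) (N i), IsCompl (LinearMap.range (α i)) Q := by
  let W := WittVector p k
  haveI : RingHomSurjective (WittVector.frobenius : W →+* W) :=
    ⟨(WittVector.frobenius_bijective p k).2⟩
  haveI : ∀ j, IsNoetherian W (N j) := fun j => (isFiniteLength_iff_isNoetherian_isArtinian.mp (hfl j)).1
  haveI : ∀ j, IsArtinian W (N j) := fun j => (isFiniteLength_iff_isNoetherian_isArtinian.mp (hfl j)).2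
  let B := (j : Fin r) → N ((j : ℕ) + 1)
  let A := N 0 × B
  let ext : (j : ℕ) → B →ₗ[W] N (j + 1) := fun j => if h : j < r then LinearMap.proj (⟨j, h⟩ : Fin r) else 0
  have ext_lt : ∀ (b : B) (j : Fin r), ext j b = b j := fun b j => by simp [ext, j.2]; rfl
  have ext_ge : ∀ (b : B) (j : ℕ), r ≤ j → ext j b = 0 := fun b j h => by simp [ext, not_lt.mpr h]
  let ι : B →ₗ[W] A := LinearMap.prod ((α 0).comp (ext 0))
    (LinearMap.pi fun j : Fin r => (α ((j : ℕ) + 1)).comp (ext ((j : ℕ) + 1)) - (p : W) • ext j)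
  let Φ : A →ₛₗ[(WittVector.frobenius : W →+* W)] N 0 :=
    { toFun := fun a => φ 0 a.1 + ∑ j : Fin r, φ ((j : ℕ) + 1) (a.2 j)
      map_add' := fun a b => by
        show φ 0 (a.1 + b.1) + ∑ j : Fin r, φ ((j : ℕ) + 1) (a.2 j + b.2 j) = _
        simp only [map_add, Finset.sum_add_distrib]
        abel
      map_smul' := fun c a => by
        show φ 0 (c • a.1) + ∑ j : Fin r, φ ((j : ℕ) + 1) (c • a.2 j) = _
        simp only [LinearMap.map_smulₛₗ, smul_add, Finset.smul_sum] }
  -- translation between the two descriptions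
  let fam : A → (j : ℕ) → N j := fun a j => match j with
    | 0 => a.1
    | j + 1 => ext j a.2
  have hfam : ∀ a, (Finset.range (r + 1)).sum (fun j => φ j (fam a j)) = Φ a := fun a => by
    rw [Finset.sum_range_succ', add_comm, ← Fin.sum_univ_eq_sum_range (fun j => φ (j + 1) (fam a (j + 1)))]
    show φ 0 a.1 + ∑ j : Fin r, φ ((j : ℕ) + 1) (ext j a.2) = φ 0 a.1 + ∑ j : Fin r, φ ((j : ℕ) + 1) (a.2 j)
    simp only [ext_lt]
  have hfam0 : ∀ a j, r < j → fam a j = 0 := fun a j hj => by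
    obtain ⟨j, rfl⟩ : ∃ j', j = j' + 1 := ⟨j - 1, by omega⟩
    exact ext_ge _ j (by omega)
  have hΦsurj : Function.Surjective Φ := fun m => by
    obtain ⟨y, -, hy⟩ := hsurj m
    refine ⟨(y 0, fun j => y ((j : ℕ) + 1)), ?_⟩
    rw [← hy, Finset.sum_range_succ', add_comm, ← Fin.sum_univ_eq_sum_range (fun j => φ (j + 1) (y (j + 1)))]
    rfl
  have hΦker : ∀ a, Φ a = 0 ↔ ∃ b, ι b = a := fun a => by
    constructor
    · intro h
      obtain ⟨z, hz, h0, hstep⟩ := hker (fam a) (hfam0 a) ((hfam a).trans h)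
      refine ⟨fun j => z j, ?_⟩
      have hz' : ∀ j, ext j (fun j : Fin r => z j) = z j := fun j => by
        by_cases hj : j < r
        · exact ext_lt _ ⟨j, hj⟩
        · rw [ext_ge _ j (not_lt.mp hj), hz j (not_lt.mp hj)]
      refine Prod.ext ?_ (funext fun j => ?_)
      · show α 0 (ext 0 _) = _
        rw [hz']
        exact h0.symm
      · show α ((j : ℕ) + 1) (ext _ _) - (p : W) • ext j _ = _
        rw [hz', hz', ← hstep j]
        exact ext_lt a.2 j
    · rintro ⟨b, rfl⟩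
      let g : ℕ → N 0 := fun j => φ j (α j (ext j b))
      have hg : ∀ j : Fin r, φ ((j : ℕ) + 1) ((ι b).2 j) = g ((j : ℕ) + 1) - g j := fun j => by
        show φ _ (α _ (ext _ b) - (p : W) • ext j b) = _
        rw [map_sub, LinearMap.map_smulₛₗ, map_natCast, ← hφ j j.2]
      show φ 0 (α 0 (ext 0 b)) + ∑ j : Fin r, φ ((j : ℕ) + 1) ((ι b).2 j) = 0
      rw [Finset.sum_congr rfl fun j _ => hg j, Fin.sum_univ_eq_sum_range (fun j => g (j + 1) - g j),
        Finset.sum_range_sub]
      show g 0 + (g r - g 0) = 0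
      rw [add_sub_cancel, show g r = 0 by simp only [g, ext_ge b r le_rfl, map_zero]]
  have hAfl : IsFiniteLength W A := isFiniteLength_iff_isNoetherian_isArtinian.mpr ⟨inferInstance, inferInstance⟩
  have hmod : ∀ n : ℕ, ∀ b, (∃ a, ι b = (p : W) ^ n • a) → ∃ b', b = (p : W) ^ n • b' := fun n =>
    injective_mod (WittVector.frobenius : W →+* W) hAfl ((p : W) ^ n) (LinearEquiv.refl W A) ι Φ hΦsurj hΦker
      (by rw [map_pow, map_natCast])
  -- purity
  have key : ∀ (n : ℕ) (x : N (i + 1)), (∃ y, α i x = (p : W) ^ n • y) → ∃ x', x = (p : W) ^ n • x' := by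
    intro n
    induction n with
    | zero => exact fun x _ => ⟨x, by simp⟩
    | succ n ih =>
      rintro x ⟨y, hy⟩
      obtain ⟨x₁, hx₁⟩ := ih x ⟨(p : W) • y, by rw [hy, pow_succ, mul_smul]⟩
      let b : B := Pi.single (⟨i, hi⟩ : Fin r) x
      have hb : ∀ j, j ≠ i → ext j b = 0 := fun j hj => by
        by_cases h : j < r
        · rw [show ext j b = b ⟨j, h⟩ from ext_lt b ⟨j, h⟩]
          exact Pi.single_eq_of_ne (fun e => hj (congrArg Fin.val e)) _
        · exact ext_ge _ j (not_lt.mp h)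
      have hbi : ext i b = x := (ext_lt b ⟨i, hi⟩).trans (Pi.single_eq_same _ _)
      have hdiv : ∀ j, ∃ y', α j (ext j b) = (p : W) ^ (n + 1) • y' := fun j => by
        by_cases h : j = i
        · subst h
          exact ⟨y, by rw [hbi, hy]⟩
        · exact ⟨0, by rw [hb j h, map_zero, smul_zero]⟩
      have hdiv' : ∀ j, ∃ x', (p : W) • ext j b = (p : W) ^ (n + 1) • x' := fun j => by
        by_cases h : j = i
        · subst h
          exact ⟨x₁, by rw [hbi, hx₁, smul_smul, ← pow_succ']⟩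
        · exact ⟨0, by rw [hb j h, smul_zero, smul_zero]⟩
      choose yα hyα using hdiv
      choose yp hyp using hdiv'
      obtain ⟨b', hb'⟩ := hmod (n + 1) b ⟨(yα 0, fun j => yα ((j : ℕ) + 1) - yp j), by
        refine Prod.ext (hyα 0) (funext fun j => ?_)
        show α _ (ext _ b) - (p : W) • ext j b = (p : W) ^ (n + 1) • (yα ((j : ℕ) + 1) - yp j)
        rw [smul_sub, hyα, hyp]⟩
      refine ⟨b' ⟨i, hi⟩, ?_⟩
      have := congrFun hb' ⟨i, hi⟩
      rw [show b ⟨i, hi⟩ = x from Pi.single_eq_same _ _] at this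
      exact this
  have hnil : ∀ j, ∃ m : ℕ, ∀ x : N j, (p : W) ^ m • x = 0 := fun j => by
    let f : ℕ →o (Submodule W (N j))ᵒᵈ := ⟨fun m => OrderDual.toDual (LinearMap.range ((p : W) ^ m • LinearMap.id : N j →ₗ[W] N j)),
      fun a b hab => by
        rintro _ ⟨x, rfl⟩
        exact ⟨(p : W) ^ (b - a) • x, by simp [smul_smul, ← pow_add, Nat.sub_add_cancel hab, Nat.add_sub_cancel' hab]⟩⟩
    obtain ⟨m, hm⟩ := IsArtinian.monotone_stabilizes f
    refine ⟨m, fun x => ?_⟩
    have hR : LinearMap.range ((p : W) ^ m • LinearMap.id : N j →ₗ[W] N j) = ⊥ := by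
      refine Submodule.eq_bot_of_le_smul_of_le_jacobson_bot (Ideal.span {(p : W)}) _ (IsNoetherian.noetherian _) ?_ ?_
      · intro y hy
        have e : LinearMap.range ((p : W) ^ m • LinearMap.id : N j →ₗ[W] N j) =
            LinearMap.range ((p : W) ^ (m + 1) • LinearMap.id : N j →ₗ[W] N j) :=
          congrArg OrderDual.ofDual (hm (m + 1) m.le_succ)
        have hy' := e ▸ hy
        obtain ⟨z, rfl⟩ := hy'
        rw [LinearMap.smul_apply, LinearMap.id_apply, pow_succ', mul_smul]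
        exact Submodule.smul_mem_smul (Ideal.mem_span_singleton_self _) ⟨z, rfl⟩
      · rw [IsLocalRing.jacobson_eq_maximalIdeal _ bot_ne_top, Ideal.span_singleton_le_iff_mem]
        exact (WittVector.irreducible p).not_isUnit
    exact (Submodule.mem_bot W).mp (hR ▸ ⟨x, rfl⟩)
  obtain ⟨m, hm⟩ := hnil (i + 1)
  have hinj : Function.Injective (α i) := (injective_iff_map_eq_zero _).mpr fun x hx => by
    obtain ⟨x', hx'⟩ := key m x ⟨0, by rw [hx, smul_zero]⟩
    rw [hx', hm]
  refine ⟨hinj, exists_isCompl (p : W) (fun q hq => IsDiscreteValuationRing.associated_of_irreducible W hq (WittVector.irreducible p)) ?_ _ ?_⟩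
  · intro y
    obtain ⟨m', hm'⟩ := hnil i
    exact ⟨⟨(p : W) ^ m', mem_nonZeroDivisors_of_ne_zero (pow_ne_zero _ (WittVector.irreducible p).ne_zero)⟩, hm' y⟩
  · rintro n y ⟨x, hx⟩
    obtain ⟨x', rfl⟩ := key n x ⟨y, hx⟩
    exact ⟨α i x', ⟨x', rfl⟩, by rw [← hx, map_smul]⟩

end Groth.Agent.H27FonLaf
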